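import Cfsg.Agent.H624.Sl.Defs
import Cfsg.Agent.H666.Clif.Gall
import Cfsg.Agent.Blocks.Fong
import Cfsg.Agent.H589.Tilde
import Cfsg.Agent.S0914
import Cfsg.Agent.S0886

/-!
# S4536, W2: blocks of defect zero fixed by a linear character

* `stab_eq`: if `G / N` is cyclic and `χ` vanishes off `N`, then the constituents of `χ|_N` have inertia
  group `N` and degree `χ(1) / |G : N|`.
* `exists_tw_of_defect_zero`: an equivariant element which is not nilpotent on a block of defect zero.
-/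

set_option autoImplicit false
set_option linter.unusedSectionVars false

open Cfsg
open scoped ComplexConjugate

namespace Cfsg.Agent.H16.Sl

universe u

section Clif

open Cfsg.Agent.H666.Clif

variable {G : Type u} [Group G] [Finite G]

/-- If `G / N` is cyclic and `χ` vanishes off `N`, then a constituent of `χ|_N` has inertia group `N`. -/
theorem stab_eq (N : Subgroup G) [hN : N.Normal] (hc : IsCyclic (G ⧸ N)) {χ : IrrCharacter G}
    {ε : IrrCharacter N} (h : Ov N χ ε) (hv : ∀ g, (χ : G → ℂ) g ≠ 0 → g ∈ N) :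
    stab N (ε : N → ℂ) = N ∧ (χ : G → ℂ) 1 = N.index * (ε : N → ℂ) 1 := by
  classical
  have := Fintype.ofFinite G
  have := Fintype.ofFinite N
  set T := stab N (ε : N → ℂ) with hT
  have := Fintype.ofFinite T
  have hNT : N ≤ T := le_stab N (Blocks.Basic.irr_isClassFunction ε.2)
  obtain ⟨η, hη, hind, hmul⟩ := CharDeep.CliffordCorr.clifford_correspondence N (ε : N → ℂ) ε.2 T
    (by
      intro g
      rw [hT, mem_stab]
      exact ⟨fun h n => congrFun h n, fun h => funext h⟩) hNT (χ : G → ℂ) χ.2 ((ov_iff N χ ε).1 h)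
  -- the extension of `ε` to `T`
  let e : N.subgroupOf T ≃* N := Subgroup.subgroupOfEquivOfLe hNT
  have he : ∀ x : N.subgroupOf T, ((e x : N) : G) = ((x : T) : G) := fun _ => rfl
  let ε' : IrrCharacter (N.subgroupOf T) := ⟨fun x => (ε : N → ℂ) (e x),
    Characters.Core.isIrr_comp e.toMonoidHom e.surjective ε.2⟩
  have hcT : IsCyclic (T ⧸ N.subgroupOf T) := by
    let F : T ⧸ N.subgroupOf T →* G ⧸ N := QuotientGroup.map (N.subgroupOf T) N T.subtype (by
      intro x hx
      exact hx)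
    refine isCyclic_of_injective F ?_
    rw [injective_iff_map_eq_one]
    intro x hx
    obtain ⟨t, rfl⟩ := QuotientGroup.mk_surjective x
    have h1 : ((t : G) : G ⧸ N) = 1 := hx
    rw [QuotientGroup.eq_one_iff] at h1 ⊢
    exact h1
  obtain ⟨ψ, hψ, hψε⟩ := Cfsg.Agent.S0886.result (N.subgroupOf T) hcT (ε' : N.subgroupOf T → ℂ) ε'.2 (by
    intro g n
    have h1 : (g : G) ∈ stab N (ε : N → ℂ) := g.2
    rw [mem_stab] at h1
    exact congrFun h1 (e n))
  let ψ' : IrrCharacter T := ⟨ψ, hψ⟩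
  let η' : IrrCharacter T := ⟨η, hη⟩
  have hψo : Ov (N.subgroupOf T) ψ' ε' := by
    rw [ov_iff]
    have h1 : (fun n : N.subgroupOf T => (ψ' : T → ℂ) n) = (ε' : N.subgroupOf T → ℂ) := funext hψε
    rw [h1, Characters.Core.classInner_irr_self ε'.2]
    exact one_ne_zero
  have htr : ∀ f f' : N → ℂ, classInner (fun x : N.subgroupOf T => f (e x)) (fun x => f' (e x)) =
      classInner f f' := by
    intro f f'
    unfold classInner
    rw [Nat.card_congr e.toEquiv]
    congr 1
    exact Fintype.sum_equiv e.toEquiv _ _ fun x => rfl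
  have hηo : Ov (N.subgroupOf T) η' ε' := by
    rw [ov_iff]
    have h1 := htr (fun n : N => η ⟨(n : G), hNT n.2⟩) (ε : N → ℂ)
    have h2 : classInner (fun n : N.subgroupOf T => (η' : T → ℂ) n) (ε' : N.subgroupOf T → ℂ) =
        classInner (fun x : N.subgroupOf T => (fun n : N => η ⟨(n : G), hNT n.2⟩) (e x))
          (fun x => (ε : N → ℂ) (e x)) := rfl
    rw [h2, h1, hmul]
    exact (ov_iff N χ ε).1 h
  obtain ⟨l, hl1, hl2⟩ := exists_tl (N.subgroupOf T) hcT hψo hηo
  have hηε : ∀ n : N, η ⟨(n : G), hNT n.2⟩ = (ε : N → ℂ) n := by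
    intro n
    have h1 : η = (tl l ψ' : T → ℂ) := congrArg Subtype.val hl2
    have h2 : (⟨(n : G), hNT n.2⟩ : T) ∈ N.subgroupOf T := n.2
    rw [h1, tl_apply, hl1 _ h2, Units.val_one, one_mul]
    exact hψε ⟨_, h2⟩
  have hone : classInner (fun n : N => (χ : G → ℂ) n) (ε : N → ℂ) = 1 := by
    rw [← hmul, show (fun n : N => η ⟨(n : G), hNT n.2⟩) = (ε : N → ℂ) from funext hηε]
    exact Characters.Core.classInner_irr_self ε.2
  -- `χ` is the only character over `ε`
  have := Characters.Core.finite_irr (G := G)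
  have := Fintype.ofFinite (IrrCharacter G)
  obtain ⟨a, ha, ha'⟩ := CharDeep.CliffordCorr.exists_nat_coeffs_indFun N
    (Characters.Core.isIrr_isCharacter ε.2)
  have hconj : ∀ ψ : IrrCharacter G, classInner (ε : N → ℂ) (fun n : N => (ψ : G → ℂ) n) =
      conj (classInner (fun n : N => (ψ : G → ℂ) n) (ε : N → ℂ)) := by
    intro ψ
    exact (Characters.Core.classInner_conj_symm _ _).symm
  have h0 : ∀ ψ : IrrCharacter G, ψ ≠ χ → a ψ = 0 := by
    intro ψ hne
    by_contra h1
    have h2 : Ov N ψ ε := by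
      rw [ov_iff]
      intro h3
      apply h1
      have h4 := ha' ψ
      rw [hconj, h3, map_zero] at h4
      exact_mod_cast h4.symm
    obtain ⟨l, hl1, hl2⟩ := exists_tl N hc h h2
    apply hne
    rw [hl2]
    apply Subtype.ext
    funext g
    rw [tl_apply]
    by_cases hg : (χ : G → ℂ) g = 0
    · rw [hg, mul_zero]
    · rw [hl1 g (hv g hg), Units.val_one, one_mul]
  have h1 : (a χ : ℂ) = 1 := by
    rw [← ha' χ, hconj, hone, map_one]
  have h2 : indFun N (ε : N → ℂ) = (χ : G → ℂ) := by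
    rw [ha, Finset.sum_eq_single χ, h1, one_smul]
    · intro ψ _ hne
      rw [h0 ψ hne, Nat.cast_zero, zero_smul]
    · exact fun h => absurd (Finset.mem_univ _) h
  have h3 : (χ : G → ℂ) 1 = N.index * (ε : N → ℂ) 1 := by
    rw [← h2, CharactersDeep.NormalInd.indFun_one]
  have h4 : (χ : G → ℂ) 1 = T.index * (ε : N → ℂ) 1 := by
    rw [← hind, CharactersDeep.NormalInd.indFun_one, ← hηε 1]
    rfl
  refine ⟨?_, h3⟩
  have h5 : N.index = T.index := by
    have h6 := h3.symm.trans h4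
    exact_mod_cast mul_right_cancel₀ (Blocks.Basic.irr_one_ne_zero ε.2) h6
  symm
  refine Subgroup.eq_of_le_of_card_ge hNT ?_
  have h6 := Subgroup.card_mul_index N
  rw [h5, ← Subgroup.card_mul_index T] at h6
  exact (Nat.eq_of_mul_eq_mul_right (Nat.pos_of_ne_zero Subgroup.index_ne_zero_of_finite) h6).ge

end Clif

section W2

open Cfsg.Agent.H644 Cfsg.Agent.Blocks.Local Cfsg.Agent.H648.Dict Cfsg.Agent.H624.Sl
open Cfsg.Agent.Blocks.Basic (isPBlock_blockOf mem_blockOf_self irr_one_eq_charDegree charDegree_pos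
  isPBlock_eq_of_mem)
open Cfsg.Agent.H666.Clif (isIntegral_lin)

variable {G : Type*} [Group G] [Finite G] {p : ℕ} {M : Ideal AlgInt} [M.IsPrime]

theorem redC_lin_mul (ζ : G →* ℂˣ) (g h : G) :
    redC M (ζ (g * h) : ℂ) = redC M (ζ g : ℂ) * redC M (ζ h : ℂ) := by
  rw [map_mul, Units.val_mul, redC_mul (memLocalRing_of_isIntegral (isIntegral_lin ζ g))
    (memLocalRing_of_isIntegral (isIntegral_lin ζ h))]

theorem redC_lin_ker {ζ : G →* ℂˣ} {g : G} (h : ζ g = 1) : redC M (ζ g : ℂ) = 1 := by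
  rw [h, Units.val_one, redC_one]

/-- If `B` covers a block `c` of `N` (`= ker ζ`) with stabilizer `N`, then `∑ ζ(t) e_{c^t}` is an
equivariant element which is not nilpotent on `B`. -/
theorem exists_tw_of_covers (hM : IsPModular p M) {ζ : G →* ℂˣ} (N : Subgroup G) [N.Normal]
    (hNζ : ∀ n ∈ N, ζ n = 1) {B : Set (IrrCharacter G)}
    (hB : IsPBlock M B) [Fintype N] {c : Set (IrrCharacter N)} (hc : IsPBlock M c)
    (hcov : Covers N B c) (hst : ∀ g : G, conjN N g c = c → g ∈ N) :
    ∃ z : MonoidAlgebra (ResField M) G, IsTw ζ z ∧ ¬ IsNilpotent (idem M B * z) := by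
  classical
  have : Fact p.Prime := ⟨hM.1⟩
  have := Fintype.ofFinite (G ⧸ N)
  set e : MonoidAlgebra (ResField M) G := emb N (idem M c) with he
  have hee : e * e = e := by
    rw [he, ← map_mul, idem_mul_self hM (isUnion_of_isPBlock hc)]
  have hcjN : ∀ n ∈ N, cj n e = e := by
    have h1 : IsInv N e := isInv_emb (isCls_idem c)
    rw [isInv_iff_cj] at h1
    exact h1
  let f : G → MonoidAlgebra (ResField M) G := fun t => redC M (ζ t : ℂ) • cj t e
  have hf : ∀ t, ∀ n ∈ N, f (t * n) = f t := by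
    intro t n hn
    change redC M (ζ (t * n) : ℂ) • cj (t * n) e = redC M (ζ t : ℂ) • cj t e
    rw [redC_lin_mul, redC_lin_ker (hNζ n hn), mul_one, cj_mul_apply, hcjN n hn]
  let F : G ⧸ N → MonoidAlgebra (ResField M) G := fun q => f (Quotient.out q)
  have hF : ∀ t : G, F (t : G ⧸ N) = f t := by
    intro t
    obtain ⟨n, hn⟩ := QuotientGroup.mk_out_eq_mul N t
    change f (Quotient.out (t : G ⧸ N)) = f t
    rw [hn, hf t n n.2]
  set z := ∑ q : G ⧸ N, F q with hz
  have hact : ∀ (h : G) (q : G ⧸ N), redC M (ζ h : ℂ) • cj h (F q) = F (h • q) := by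
    intro h q
    obtain ⟨t, rfl⟩ := QuotientGroup.mk_surjective q
    rw [hF, show h • (t : G ⧸ N) = ((h * t : G) : G ⧸ N) from rfl, hF]
    change redC M (ζ h : ℂ) • cj h (redC M (ζ t : ℂ) • cj t e) = redC M (ζ (h * t) : ℂ) • cj (h * t) e
    rw [map_smul, smul_smul, redC_lin_mul, cj_mul_apply]
  have hzh : ∀ h : G, redC M (ζ h : ℂ) • cj h z = z := by
    intro h
    rw [hz, map_sum, Finset.smul_sum, Finset.sum_congr rfl fun q _ => hact h q]
    exact Equiv.sum_comp (MulAction.toPerm h) F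
  have hze : z * e = e := by
    rw [hz, Finset.sum_mul, Finset.sum_eq_single ((1 : G) : G ⧸ N)]
    · rw [hF]
      change (redC M (ζ 1 : ℂ) • cj 1 e) * e = e
      rw [redC_lin_ker (map_one ζ), one_smul, cj_one_apply, hee]
    · intro q _ hq
      obtain ⟨t, rfl⟩ := QuotientGroup.mk_surjective q
      rw [hF]
      change (redC M (ζ t : ℂ) • cj t e) * e = 0
      have h1 : conjN N t c ≠ c := by
        intro h
        apply hq
        rw [QuotientGroup.eq, mul_one, inv_mem_iff]
        exact hst t h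
      rw [smul_mul_assoc, he, ← emb_idem_conjN, ← map_mul,
        idem_mul_idem_of_ne hM (isPBlock_conjN N t hc) hc h1, map_zero, smul_zero]
    · exact fun h => absurd (Finset.mem_univ _) h
  refine ⟨z, ?_, ?_⟩
  · intro h g
    conv_lhs => rw [← hzh h]
    rw [MonoidAlgebra.coeff_smul, Finsupp.smul_apply, smul_eq_mul, coeff_cj]
    congr 2
    group
  · rintro ⟨n, hn⟩
    have hE : idem M B * idem M B = idem M B := idem_mul_self hM (isUnion_of_isPBlock hB)
    have hcomm := isCls_comm (isCls_idem (M := M) B)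
    have h1 : idem M B * z * (idem M B * e) = idem M B * e := by
      rw [hcomm z, mul_assoc, ← mul_assoc (idem M B) (idem M B) e, hE, hcomm e, ← mul_assoc, hze]
    have h2 : ∀ k : ℕ, (idem M B * z) ^ k * (idem M B * e) = idem M B * e := by
      intro k
      induction k with
      | zero => rw [pow_zero, one_mul]
      | succ k ih => rw [pow_succ, mul_assoc, h1, ih]
    have h3 := h2 n
    rw [hn, zero_mul] at h3
    exact (covers_iff_idem N hM hB hc).1 hcov h3.symm

theorem isCyclic_quot_ker (ζ : G →* ℂˣ) : IsCyclic (G ⧸ ζ.ker) := by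
  have : Finite ζ.range := Set.finite_range ζ
  exact isCyclic_of_surjective (QuotientGroup.quotientKerEquivRange ζ).symm.toMonoidHom
    (QuotientGroup.quotientKerEquivRange ζ).symm.surjective

/-- W2, without W1c. -/
theorem exists_tw_of_defect_zero (hM : IsPModular p M) {ζ : G →* ℂˣ} (χ : IrrCharacter G)
    (hd : (charDegree (χ : G → ℂ)).factorization p = (Nat.card G).factorization p)
    (hf : FixIrr ζ (χ : G → ℂ)) :
    ∃ z : MonoidAlgebra (ResField M) G, IsTw ζ z ∧
      ¬ IsNilpotent (idem M (blockOf M (χ : G → ℂ)) * z) := by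
  classical
  have : Fact p.Prime := ⟨hM.1⟩
  have hp : p.Prime := hM.1
  have := Fintype.ofFinite G
  have := Fintype.ofFinite ζ.ker
  obtain ⟨ε, hε⟩ := Cfsg.Agent.Blocks.Fong.exists_constituent ζ.ker χ
  have hov : Cfsg.Agent.H666.Clif.Ov ζ.ker χ ε := (Cfsg.Agent.H666.Clif.ov_iff ζ.ker χ ε).2 hε
  obtain ⟨hs, hdeg⟩ := stab_eq ζ.ker (isCyclic_quot_ker ζ) hov fun g hg =>
    MonoidHom.mem_ker.2 (hf g hg)
  -- `ε` has defect zero
  have h1 : charDegree (χ : G → ℂ) = ζ.ker.index * charDegree (ε : ζ.ker → ℂ) := by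
    rw [irr_one_eq_charDegree χ.2, irr_one_eq_charDegree ε.2] at hdeg
    exact_mod_cast hdeg
  have h2 := Subgroup.card_mul_index ζ.ker
  have hi0 : ζ.ker.index ≠ 0 := Subgroup.index_ne_zero_of_finite
  have he0 : charDegree (ε : ζ.ker → ℂ) ≠ 0 := (charDegree_pos ε.2).ne'
  have h3 : (charDegree (ε : ζ.ker → ℂ)).factorization p = (Nat.card ζ.ker).factorization p := by
    rw [h1, ← h2, Nat.factorization_mul hi0 he0, Nat.factorization_mul Nat.card_pos.ne' hi0,
      Finsupp.add_apply, Finsupp.add_apply] at hd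
    omega
  have h4 : ¬ p ∣ Nat.card ζ.ker / charDegree (ε : ζ.ker → ℂ) := by
    obtain ⟨k, hk⟩ := H589.Tilde.charDegree_dvd ε
    have hk0 : k ≠ 0 := by
      rintro rfl
      rw [mul_zero] at hk
      exact Nat.card_pos.ne' hk
    rw [hk, Nat.mul_div_cancel_left _ (Nat.pos_of_ne_zero he0)]
    intro h
    rw [hk, Nat.factorization_mul he0 hk0, Finsupp.add_apply] at h3
    have h5 := (hp.dvd_iff_one_le_factorization hk0).1 h
    omega
  have h5 := (Cfsg.Agent.S0914.result p M hM ε).1 h4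
  refine exists_tw_of_covers hM ζ.ker (fun n hn => MonoidHom.mem_ker.1 hn) (isPBlock_blockOf χ)
    (isPBlock_blockOf ε)
    ⟨χ, mem_blockOf_self χ, ε, mem_blockOf_self ε, hε⟩ fun g hg => ?_
  rw [h5, conjN, Set.image_singleton, Set.singleton_eq_singleton_iff] at hg
  have h6 : g⁻¹ ∈ Cfsg.Agent.H666.Clif.stab ζ.ker (ε : ζ.ker → ℂ) := by
    rw [Cfsg.Agent.H666.Clif.mem_stab]
    funext n
    have h7 := congrFun (congrArg Subtype.val hg) n
    rw [irrMap_cjE_apply] at h7
    rw [← h7]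
    refine congrArg (ε : ζ.ker → ℂ) (Subtype.ext ?_)
    change g⁻¹ * (n : G) * g⁻¹⁻¹ = g⁻¹ * n * g
    rw [inv_inv]
  rw [hs] at h6
  exact inv_mem_iff.1 h6

/-- W2, with W1c as hypothesis. -/
theorem exists_nz_of_defect_zero' (hM : IsPModular p M) {ζ : G →* ℂˣ} (χ : IrrCharacter G)
    (hW : ∀ {z : MonoidAlgebra (ResField M) G}, IsTw ζ z →
      ¬ IsNilpotent (idem M (blockOf M (χ : G → ℂ)) * z) →
        ∃ x : G, Nz M ζ (blockOf M (χ : G → ℂ)) x)
    (hd : (charDegree (χ : G → ℂ)).factorization p = (Nat.card G).factorization p)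
    (hf : FixIrr ζ (χ : G → ℂ)) : ∃ x : G, Nz M ζ (blockOf M (χ : G → ℂ)) x := by
  obtain ⟨z, hz, hn⟩ := exists_tw_of_defect_zero hM χ hd hf
  exact hW hz hn

end W2

end Cfsg.Agent.H16.Sl
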